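/-
Degree of a pullback along a finite flat map of curves; sections of a non-degenerate map to projective space.
-/
import Groth.Prelude.Def_LinSer
import Groth.Agent.ResDesc.ProjFormula
import Groth.Agent.FEtRank.PushRank
import Groth.Agent.CurveRR.Multi2
import Groth.Agent.Nakai.FlatEuler
import Groth.Agent.SerrePn.LinForms
import Groth.Agent.QC.PullSect
import Groth.Agent.CohFinite.Serre
import Groth.Agent.ProjMor.Sym
import Groth.Agent.TMul.Pullback
import Groth.Agent.CurveRR.Cartier

set_option autoImplicit false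
set_option linter.style.haveILetI false
set_option linter.unusedSectionVars false
set_option backward.isDefEq.respectTransparency false
set_option backward.isDefEq.respectTransparency.types false

universe u

open CategoryTheory CategoryTheory.Limits AlgebraicGeometry Opposite
open Groth.Agent.QC (res res_self)
open Groth.Agent.CurveRR

noncomputable section

namespace Groth.Agent.BpfCover

variable {k : Type u} [Field k]

/-- The degree of a pullback along a finite flat map of rank `a`. -/
theorem deg_pullback {X Y : Scheme.{u}} [X.Over (Spec (CommRingCat.of k))] [Y.Over (Spec (CommRingCat.of k))]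
    [IsProper (X ↘ Spec (CommRingCat.of k))] [IsProper (Y ↘ Spec (CommRingCat.of k))]
    (hdim : topologicalKrullDim Y ≤ 1) (π : X ⟶ Y) [IsFinite π] [Flat π]
    (hπ : π ≫ (Y ↘ Spec (CommRingCat.of k)) = X ↘ Spec (CommRingCat.of k)) (a : ℕ)
    (ha : ∀ y, π.finrank y = a) {M : Y.Modules} (hM : PicF.IsInvertible M) :
    Curv2.deg k X ((Scheme.Modules.pullback π).obj M) 1 = a * Curv2.deg k Y M 1 := by
  haveI := isNoetherian_of_proper k X
  haveI := isNoetherian_of_proper k Y
  have hP := FEtRank.isFinLocFreeOfRank_of_finrank_eq π ha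
  have hMc := isCoh_of_inv hM
  haveI := ResDesc.isIso_phi π M (fun y => let ⟨U, hy, h⟩ := hP y; ⟨U, a, hy, h⟩) hMc.1
  have h1 := Multi.deg_tensor k hdim a 1 _ M hP (isFinLocFreeOfRank_one hM)
  have e1 : Curv2.euler k X ((Scheme.Modules.pullback π).obj M) =
      Curv2.euler k Y (CohB1.tensorMod ((Scheme.Modules.pushforward π).obj (Coh.structureModule X)) M) := by
    haveI : Coh.IsQCoh ((Scheme.Modules.pullback π).obj M) :=
      TMul.isQCoh_of_isInvertible (PicLoc.isInvertible_pullback π hM)
    rw [Nakai.euler_push_acyclic k π hπ _ (CohQC.directAcyclic_of_isAffineHom π _)]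
    exact (euler_eq_of_iso (asIso (ResDesc.phi π M))).symm
  have e2 : Curv2.euler k X (Coh.structureModule X) =
      Curv2.euler k Y ((Scheme.Modules.pushforward π).obj (Coh.structureModule X)) := by
    haveI : Coh.IsQCoh (Coh.structureModule X) := Groth.Agent.QC.isQCoh_unit X
    exact Nakai.euler_push_acyclic k π hπ _ (CohQC.directAcyclic_of_isAffineHom π _)
  simp only [Curv2.deg, mul_one] at h1 ⊢
  rw [← e1, ← e2] at h1
  push_cast at h1 ⊢
  linarith

theorem exists_point_avoid {N : ℕ} {f : SerrePn.Poly k N} (hf : f ≠ 0) :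
    ∃ y : CohB1.ProjSpace N k, y ∈ Proj.basicOpen (CohB1.polyGrading N k) f := by
  refine ⟨(⟨⊥, by simpa using Ideal.bot_prime, fun h => ?_⟩ :
    ProjectiveSpectrum (CohB1.polyGrading N k)), ?_⟩
  · have hX : (MvPolynomial.X 0 : SerrePn.Poly k N) ∈ (HomogeneousIdeal.irrelevant (CohB1.polyGrading N k)).toIdeal :=
      HomogeneousIdeal.mem_irrelevant_of_mem _ zero_lt_one (MvPolynomial.isHomogeneous_X k 0)
    have h0 := h hX
    exact MvPolynomial.X_ne_zero 0 (Ideal.mem_bot.1 (show (MvPolynomial.X 0 : SerrePn.Poly k N) ∈ (⊥ : Ideal (SerrePn.Poly k N)) from h0))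
  · exact (ProjectiveSpectrum.mem_basicOpen _ _ _).mpr fun h => hf (Ideal.mem_bot.1 (show f ∈ (⊥ : Ideal (SerrePn.Poly k N)) from h))

theorem formSec_ne_zero {N : ℕ} {l : SerrePn.Forms k N} (hl : (l : SerrePn.Poly k N) ≠ 0) :
    SerrePn.formSec l ≠ 0 := by
  intro h0
  obtain ⟨y, hy⟩ := exists_point_avoid hl
  let D := Proj.basicOpen (CohB1.polyGrading N k) (l : SerrePn.Poly k N)
  have hg := SerrePn.isGen_formSec l D le_rfl
  have h1 : (1 : Γ(CohB1.ProjSpace N k, D)) = 0 := hg.1 (by simp only [h0, map_zero, smul_zero])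
  exact not_isUnit_zero (M₀ := (CohB1.ProjSpace N k).presheaf.stalk y) (by
    rw [← map_zero ((CohB1.ProjSpace N k).presheaf.germ D y hy).hom, ← h1, map_one]
    exact isUnit_one)

/-- A non-degenerate map to `P^N` pulls back at least `N + 1` independent sections. -/
theorem le_h0_of_nondeg {Y : Scheme.{u}} [Y.Over (Spec (CommRingCat.of k))] [IsProper (Y ↘ Spec (CommRingCat.of k))]
    {N : ℕ} (φ : Y ⟶ CohB1.ProjSpace N k)
    (hφ : φ ≫ CohB1.ProjSpace.toSpec N k = Y ↘ Spec (CommRingCat.of k))
    (hnd : ∀ s : LinSer.Sect (CohB1.ProjSpace N k) (Twist.twistProjSpace N k 1),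
      s ≠ 0 → OmegaSh.pullSect φ (Twist.twistProjSpace N k 1) ⊤ s ≠ 0) :
    N + 1 ≤ h k ((Scheme.Modules.pullback φ).obj (Twist.twistProjSpace N k 1)) 0 := by
  haveI := isNoetherian_of_proper k Y
  let M := (Scheme.Modules.pullback φ).obj (Twist.twistProjSpace N k 1)
  have hM : PicF.IsInvertible M := PicLoc.isInvertible_pullback φ (CohFinite.isInvertible_twist N k 1)
  letI := secMod k M ⊤
  haveI hfH : Module.Finite k (Coh.HH Y M 0) := CohFinite.finite_proper k Y M (isCoh_of_inv hM) 0
  haveI : Module.Finite k Γ(M, ⊤) := Module.Finite.equiv (secH0 (k := k) M).symm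
  let form : (Fin (N + 1) → k) →ₗ[k] SerrePn.Forms k N :=
    (ProjMor.linForms N k).codRestrict _ (ProjMor.linForms_mem N k)
  let T : (Fin (N + 1) → k) →ₗ[k] Γ(M, ⊤) :=
    { toFun := fun c => (OmegaSh.pullSect φ (Twist.twistProjSpace N k 1) ⊤ (SerrePn.formSec (form c)) : Γ(M, ⊤))
      map_add' := fun c c' => by
        rw [map_add, SerrePn.formSec_add]
        exact map_add ((Scheme.Modules.pullbackPushforwardAdjunction φ).unit.app
          (Twist.twistProjSpace N k 1) |>.app ⊤).hom _ _
      map_smul' := fun r c => by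
        rw [map_smul, SerrePn.formSec_smul]
        refine (OmegaSh.pullSect_smul φ _ ⊤ _ _).trans ?_
        refine congrArg (fun x : Γ(Y, ⊤) => x • (show Γ(M, ⊤) from OmegaSh.pullSect φ (Twist.twistProjSpace N k 1) ⊤
          (SerrePn.formSec (form c)))) ?_
        have hφ' : φ ≫ (CohB1.ProjSpace N k ↘ Spec (CommRingCat.of k)) = Y ↘ Spec (CommRingCat.of k) := hφ
        show φ.appTop (Coh.toGlobal (CohB1.ProjSpace N k ↘ Spec (CommRingCat.of k)) r) =
          Groth.Agent.QC.resO Y le_rfl (Coh.toGlobal (Y ↘ Spec (CommRingCat.of k)) r)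
        rw [Groth.Agent.QC.resO_self, ← hφ']
        simp [Coh.toGlobal]
        rfl }
  have hinj : Function.Injective T := by
    refine (injective_iff_map_eq_zero T).2 fun c hc => ?_
    by_contra hne
    have hl : ((form c) : SerrePn.Poly k N) ≠ 0 := by
      intro h0
      refine hne (funext fun i => ?_)
      have h1 := congrArg (MvPolynomial.coeff (Finsupp.single i 1)) h0
      simpa [form, ProjMor.linForms, Fintype.linearCombination_apply, MvPolynomial.coeff_sum,
        MvPolynomial.coeff_X', Finsupp.single_eq_single_iff] using h1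
    exact hnd _ (formSec_ne_zero hl) hc
  have h := LinearMap.finrank_le_finrank_of_injective hinj
  rw [Module.finrank_fintype_fun_eq_card, Fintype.card_fin, finrank_sec] at h
  exact h

/-- Pulling back further keeps non-degeneracy backwards. -/
theorem pullSect_ne_zero_of_comp {X Y Z : Scheme.{u}} (π : X ⟶ Y) (φ : Y ⟶ Z) (M : Z.Modules) (s : Γ(M, ⊤))
    (h : OmegaSh.pullSect (π ≫ φ) M ⊤ s ≠ 0) : OmegaSh.pullSect φ M ⊤ s ≠ 0 := fun h0 => by
  refine h ?_
  rw [← Groth.Agent.QC.pullbackComp_hom_pullSect π φ M ⊤ s, h0]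
  have : OmegaSh.pullSect π ((Scheme.Modules.pullback φ).obj M) (φ ⁻¹ᵁ ⊤) 0 = 0 :=
    map_zero ((Scheme.Modules.pullbackPushforwardAdjunction π).unit.app ((Scheme.Modules.pullback φ).obj M) |>.app
      (φ ⁻¹ᵁ ⊤)).hom
  rw [this, map_zero]

end Groth.Agent.BpfCover

end
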